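import Mathlib
import Cfsg.Prelude.Def_DegreeGraph
import Cfsg.Agent.H704.Defs

/-!
# Vocabulary for S4766 (groups with the character degrees of `A_n`) (helper691)

* `An n` : the alternating group of degree `n`; `D n` : its set of degrees;
* `Inert n T` : the numerical condition on the stabilizer in `A_n` of a nontrivial character of an abelian chief factor;
* `QP lam` : the restriction of `lam` to each normal subgroup is a multiple of an irreducible character;
* `Frob G N M q a` : `M / N` is elementary abelian of order `q ^ a`, a chief factor of `G`, `G / M` is abelian and acts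
  freely on `M / N`;
* `AlmostSimple A S` : `S` is a normal nonabelian simple subgroup of `A` with trivial centralizer.
-/

set_option autoImplicit false

namespace Cfsg.Agent.H691.AN

open Cfsg

universe u

/-- the alternating group of degree `n` -/
abbrev An (n : ℕ) : Type := ↥(alternatingGroup (Fin n))

/-- the degrees of `A_n` -/
abbrev D (n : ℕ) : Set ℕ := charDegrees (An n)

/-- the condition on the stabilizer `T` (in `A_n`) of a linear character of an abelian chief factor: the largest
degree `e` over it satisfies `|T| ≤ k(T) e²` and `|A_n : T| e` divides a degree of `A_n` -/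
def Inert (n : ℕ) (T : Subgroup (An n)) : Prop :=
  ∃ e d : ℕ, d ∈ D n ∧ T.index * e ∣ d ∧ Nat.card T ≤ Nat.card (ConjClasses T) * e ^ 2

/-- the restrictions to normal subgroups are homogeneous -/
def QP {H : Type u} [Group H] (lam : H → ℂ) : Prop :=
  ∀ N : Subgroup H, N.Normal → ∃ (θ : N → ℂ) (e : ℕ), IsIrrCharacter N θ ∧ ∀ x : N, lam x = e * θ x

/-- `M / N` is an elementary abelian chief factor of `G` of order `q ^ a` and the abelian group `G / M` acts freely on
it. -/
structure Frob (G : Type u) [Group G] (N M : Subgroup G) (q a : ℕ) : Prop where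
  normN : N.Normal
  normM : M.Normal
  le : N ≤ M
  ne_top : M ≠ ⊤
  comm : commutator G ≤ M
  prime : q.Prime
  pos : 0 < a
  card : N.relIndex M = q ^ a
  abel : ⁅M, M⁆ ≤ N
  expo : ∀ x ∈ M, x ^ q ∈ N
  chief : ∀ K : Subgroup G, K.Normal → N ≤ K → K ≤ M → K = N ∨ K = M
  free : ∀ x : G, x ∉ M → ∀ g : G, g ∈ M → x * g * x⁻¹ * g⁻¹ ∈ N → g ∈ N

/-- `A` is almost simple with socle `S` -/
structure AlmostSimple (A : Type u) [Group A] (S : Subgroup A) : Prop where
  normal : S.Normal
  simple : IsSimpleGroup S
  nonab : ¬ IsMulCommutative S
  cent : Subgroup.centralizer (S : Set A) = ⊥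

end Cfsg.Agent.H691.AN
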