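import Cfsg.Agent.H691.AN.Defs
import Cfsg.Agent.H681.DegBasic
import Cfsg.Agent.H686.CharKit
import Cfsg.Prelude.Def_KGroupFacts

/-!
# S4766: the frame (helper691)

`G` with `charDegrees G = D n`, not solvable; the socle of `G / Sol(G)` is `A_n`; no chief factor below `A_n`: then `G` has
a normal subgroup isomorphic to `A_n` with solvable quotient.
-/

set_option autoImplicit false

namespace Cfsg.Agent.H691.AN

open Cfsg Cfsg.Agent.H681.DegBasic Cfsg.Agent.H686.CharKit
open scoped commutatorElement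

universe u

/-- there is no abelian chief factor below `A_n` -/
def NoChief (n : ℕ) : Prop :=
  ∀ {G : Type u} [Group G] [Finite G], charDegrees G ⊆ D n → ∀ (N V : Subgroup G) [N.Normal] [V.Normal], V ≤ N →
    ((N ⧸ V.subgroupOf N) ≃* An n) → ⁅N, N⁆ = N → ⁅V, V⁆ = ⊥ → V ≠ ⊥ →
    (∀ K : Subgroup G, K.Normal → K ≤ V → K = ⊥ ∨ K = V) → False

/-- a maximal normal subgroup of `G` properly contained in `M` -/
theorem exists_max_normal {G : Type u} [Group G] [Finite G] {M : Subgroup G} (hM : M ≠ ⊥) :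
    ∃ K : Subgroup G, K.Normal ∧ K < M ∧ ∀ L : Subgroup G, L.Normal → K ≤ L → L ≤ M → L = K ∨ L = M := by
  classical
  have hfin : (Set.univ : Set (Subgroup G)).Finite := Set.toFinite _
  obtain ⟨K, ⟨hK1, hK2⟩, hK3⟩ := (hfin.subset (Set.subset_univ {K : Subgroup G | K.Normal ∧ K < M})).exists_maximal
    ⟨⊥, inferInstance, bot_lt_iff_ne_bot.2 hM⟩
  refine ⟨K, hK1, hK2, fun L hL hKL hLM => ?_⟩
  by_cases h : L = M
  · exact Or.inr h
  · left
    exact le_antisymm (hK3 ⟨hL, lt_of_le_of_ne hLM h⟩ hKL) hKL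

theorem map_commutator_eq {G H : Type*} [Group G] [Group H] (f : G →* H) {N : Subgroup G} (h : ⁅N, N⁆ = N) :
    ⁅N.map f, N.map f⁆ = N.map f := by
  rw [← Subgroup.map_commutator, h]

/-- `(N / K) / (V / K) ≃ N / V` -/
theorem exists_equiv {G : Type u} [Group G] {N V K : Subgroup G} [N.Normal] [V.Normal] [K.Normal] (hKV : K ≤ V)
    (_hVN : V ≤ N) : Nonempty ((N.map (QuotientGroup.mk' K) ⧸ (V.map (QuotientGroup.mk' K)).subgroupOf
      (N.map (QuotientGroup.mk' K))) ≃* (N ⧸ V.subgroupOf N)) := by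
  have hn : (V.map (QuotientGroup.mk' K)).Normal := Subgroup.Normal.map inferInstance _ (QuotientGroup.mk'_surjective K)
  have hn' : ((V.map (QuotientGroup.mk' K)).subgroupOf (N.map (QuotientGroup.mk' K))).Normal := inferInstance
  let f : N →* N.map (QuotientGroup.mk' K) := (QuotientGroup.mk' K).subgroupMap N
  have hf : Function.Surjective f := (QuotientGroup.mk' K).subgroupMap_surjective N
  let g : N →* (N.map (QuotientGroup.mk' K) ⧸ (V.map (QuotientGroup.mk' K)).subgroupOf (N.map (QuotientGroup.mk' K))) :=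
    (QuotientGroup.mk' _).comp f
  have hg : Function.Surjective g := (QuotientGroup.mk'_surjective _).comp hf
  have hker : g.ker = V.subgroupOf N := by
    ext x
    rw [MonoidHom.mem_ker, MonoidHom.comp_apply, QuotientGroup.mk'_apply, QuotientGroup.eq_one_iff,
      Subgroup.mem_subgroupOf, Subgroup.mem_subgroupOf]
    constructor
    · rintro ⟨v, hv, hvx⟩
      have h1 : (QuotientGroup.mk' K) v = (QuotientGroup.mk' K) (x : G) := hvx
      have h2 : v⁻¹ * (x : G) ∈ K := QuotientGroup.eq.1 h1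
      have h3 : (x : G) = v * (v⁻¹ * (x : G)) := by group
      rw [h3]
      exact V.mul_mem hv (hKV h2)
    · intro hx
      exact ⟨x, hx, rfl⟩
  exact ⟨((QuotientGroup.quotientMulEquivOfEq hker).symm.trans
    (QuotientGroup.quotientKerEquivOfSurjective g hg)).symm⟩

/-- a perfect solvable subgroup is trivial -/
theorem eq_bot_of_perfect {G : Type*} [Group G] {M : Subgroup G} (h1 : ⁅M, M⁆ = M) (hs : Group.IsSolvable M) :
    M = ⊥ := by
  obtain ⟨k, hk⟩ := hs
  have h0 : commutator M = ⊤ := by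
    have h3 : (commutator M).map M.subtype = M := by
      rw [Subgroup.map_subtype_commutator, h1]
    rw [eq_top_iff]
    intro x _
    have h4 : (x : G) ∈ (commutator M).map M.subtype := by rw [h3]; exact x.2
    obtain ⟨y, hy, hyx⟩ := h4
    have : y = x := Subtype.ext hyx
    rwa [← this]
  have h2 : ∀ j, derivedSeries M j = ⊤ := by
    intro j
    induction j with
    | zero => rfl
    | succ j ih => rw [derivedSeries_succ, ih]; exact h0
  rw [h2 k] at hk
  rw [eq_bot_iff]
  intro x hx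
  have h4 : (⟨x, hx⟩ : M) ∈ (⊤ : Subgroup M) := Subgroup.mem_top _
  rw [hk, Subgroup.mem_bot] at h4
  exact Subgroup.mem_bot.2 (congrArg Subtype.val h4)

/-- **The kernel is trivial.** -/
theorem kernel_trivial {n : ℕ} (hNC : NoChief.{u} n) {G : Type u} [Group G] [Finite G] (h : charDegrees G ⊆ D n)
    (N M : Subgroup G) [hN : N.Normal] [hM : M.Normal] (hMN : M ≤ N) (e : (N ⧸ M.subgroupOf N) ≃* An n)
    (hperf : ⁅N, N⁆ = N) (hsol : Group.IsSolvable M) : M = ⊥ := by
  by_contra hne
  obtain ⟨K, hK, hKM, hmax⟩ := exists_max_normal hne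
  have hsurj := QuotientGroup.mk'_surjective K
  have iM : (M.map (QuotientGroup.mk' K)).Normal := hM.map _ hsurj
  have iN : (N.map (QuotientGroup.mk' K)).Normal := hN.map _ hsurj
  obtain ⟨e'⟩ := exists_equiv (N := N) hKM.le hMN
  have hmne : M.map (QuotientGroup.mk' K) ≠ ⊥ := by
    rw [Ne, Subgroup.map_eq_bot_iff, QuotientGroup.ker_mk']
    exact fun h1 => hKM.not_ge h1
  have hmin : ∀ L : Subgroup (G ⧸ K), L.Normal → L ≤ M.map (QuotientGroup.mk' K) →
      L = ⊥ ∨ L = M.map (QuotientGroup.mk' K) := by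
    intro L hL hLM
    have h1 : K ≤ L.comap (QuotientGroup.mk' K) := by
      intro x hx
      rw [Subgroup.mem_comap, QuotientGroup.mk'_apply, (QuotientGroup.eq_one_iff x).2 hx]
      exact L.one_mem
    have h2 : L.comap (QuotientGroup.mk' K) ≤ M := by
      intro x hx
      obtain ⟨y, hy, hyx⟩ := hLM hx
      have h3 : y⁻¹ * x ∈ K := QuotientGroup.eq.1 hyx
      have h4 : x = y * (y⁻¹ * x) := by group
      rw [h4]
      exact M.mul_mem hy (hKM.le h3)
    have h5 : L = (L.comap (QuotientGroup.mk' K)).map (QuotientGroup.mk' K) :=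
      (Subgroup.map_comap_eq_self_of_surjective hsurj L).symm
    rcases hmax _ (hL.comap _) h1 h2 with h6 | h6
    · left
      rw [h5, h6, Subgroup.map_eq_bot_iff, QuotientGroup.ker_mk']
    · right
      rw [h5, h6]
  refine hNC (G := G ⧸ K) (fun d hd => h (charDegrees_comp (QuotientGroup.mk' K) hsurj hd))
    (N.map (QuotientGroup.mk' K)) (M.map (QuotientGroup.mk' K)) (Subgroup.map_mono hMN) (e'.trans e)
    (map_commutator_eq _ hperf) ?_ hmne hmin
  -- the chief factor is abelian
  have hsolM : Group.IsSolvable (M.map (QuotientGroup.mk' K)) :=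
    Group.isSolvable_of_surjective ((QuotientGroup.mk' K).subgroupMap_surjective M)
  have hcn : (⁅M.map (QuotientGroup.mk' K), M.map (QuotientGroup.mk' K)⁆ : Subgroup (G ⧸ K)).Normal :=
    inferInstance
  rcases hmin _ hcn (Subgroup.commutator_le_right _ _) with h1 | h1
  · exact h1
  · exact absurd (eq_bot_of_perfect h1 hsolM) hmne

/-- a maximal solvable normal subgroup -/
theorem exists_rad (G : Type u) [Group G] [Finite G] : ∃ R : Subgroup G, ∃ _ : R.Normal, Group.IsSolvable R ∧
    ∀ K : Subgroup (G ⧸ R), K.Normal → Group.IsSolvable K → K = ⊥ := by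
  classical
  obtain ⟨R, ⟨hR1, hR2⟩, hR3⟩ := ((Set.toFinite (Set.univ : Set (Subgroup G))).subset
    (Set.subset_univ {K : Subgroup G | K.Normal ∧ Group.IsSolvable K})).exists_maximal
    ⟨⊥, inferInstance, inferInstance⟩
  refine ⟨R, hR1, hR2, fun K hK hKs => ?_⟩
  have h1 : R ≤ K.comap (QuotientGroup.mk' R) := by
    intro x hx
    rw [Subgroup.mem_comap, QuotientGroup.mk'_apply, (QuotientGroup.eq_one_iff x).2 hx]
    exact K.one_mem
  have h2 : Group.IsSolvable (K.comap (QuotientGroup.mk' R)) := by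
    let f : R →* K.comap (QuotientGroup.mk' R) := Subgroup.inclusion h1
    let g : K.comap (QuotientGroup.mk' R) →* K := (QuotientGroup.mk' R).subgroupComap K
    refine Group.isSolvable_of_ker_le_range f g ?_
    intro x hx
    have h3 : (QuotientGroup.mk' R) (x : G) = 1 := congrArg Subtype.val (MonoidHom.mem_ker.1 hx)
    have h4 : (x : G) ∈ R := (QuotientGroup.eq_one_iff _).1 h3
    exact ⟨⟨x, h4⟩, rfl⟩
  have h3 := hR3 ⟨hK.comap _, h2⟩ h1
  rw [← Subgroup.map_comap_eq_self_of_surjective (QuotientGroup.mk'_surjective R) K, Subgroup.map_eq_bot_iff,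
    QuotientGroup.ker_mk']
  exact h3

/-- the last term of the derived series -/
theorem exists_perfect (G : Type u) [Group G] [Finite G] : ∃ N : Subgroup G, ∃ _ : N.Normal,
    Group.IsSolvable (G ⧸ N) ∧ ⁅N, N⁆ = N := by
  classical
  have htop : Group.IsSolvable (G ⧸ (⊤ : Subgroup G)) := by
    have : Subsingleton (G ⧸ (⊤ : Subgroup G)) := QuotientGroup.subsingleton_quotient_top
    infer_instance
  obtain ⟨N, ⟨hN1, hN2⟩, hN3⟩ := ((Set.toFinite (Set.univ : Set (Subgroup G))).subset
    (Set.subset_univ {K : Subgroup G | ∃ _ : K.Normal, Group.IsSolvable (G ⧸ K)})).exists_minimal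
    ⟨⊤, inferInstance, htop⟩
  refine ⟨N, hN1, hN2, le_antisymm (Subgroup.commutator_le_right _ _) (hN3 ⟨inferInstance, ?_⟩
    (Subgroup.commutator_le_right _ _))⟩
  -- `G / [N, N]` is solvable
  let f : N →* G ⧸ ⁅N, N⁆ := (QuotientGroup.mk' ⁅N, N⁆).comp N.subtype
  let g : G ⧸ ⁅N, N⁆ →* G ⧸ N := QuotientGroup.map _ _ (MonoidHom.id G) (Subgroup.commutator_le_right _ _)
  have hf : Group.IsSolvable f.range := by
    refine ⟨1, ?_⟩
    rw [derivedSeries_succ, derivedSeries_zero, Subgroup.commutator_eq_bot_iff_le_centralizer]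
    rintro ⟨_, x, rfl⟩ -
    rw [Subgroup.mem_centralizer_iff]
    rintro ⟨_, y, rfl⟩ -
    apply Subtype.ext
    change (QuotientGroup.mk' ⁅N, N⁆) (y : G) * (QuotientGroup.mk' ⁅N, N⁆) (x : G) =
      (QuotientGroup.mk' ⁅N, N⁆) (x : G) * (QuotientGroup.mk' ⁅N, N⁆) (y : G)
    rw [← map_mul, ← map_mul, QuotientGroup.mk'_apply, QuotientGroup.mk'_apply, QuotientGroup.eq]
    have h1 : ⁅(x : G)⁻¹, (y : G)⁻¹⁆ ∈ (⁅N, N⁆ : Subgroup G) :=
      Subgroup.commutator_mem_commutator (N.inv_mem x.2) (N.inv_mem y.2)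
    rw [commutatorElement_def, inv_inv, inv_inv] at h1
    have h2 : ((y : G) * (x : G))⁻¹ * ((x : G) * (y : G)) = (x : G)⁻¹ * (y : G)⁻¹ * (x : G) * (y : G) := by group
    rw [h2]
    exact h1
  refine Group.isSolvable_of_ker_le_range f.range.subtype g ?_
  intro x hx
  rw [Subgroup.range_subtype]
  obtain ⟨y, rfl⟩ := QuotientGroup.mk_surjective x
  have h1 : (QuotientGroup.mk y : G ⧸ N) = 1 := MonoidHom.mem_ker.1 hx
  exact ⟨⟨y, (QuotientGroup.eq_one_iff y).1 h1⟩, rfl⟩

/-- the quotients of the derived series in `Out` -/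
theorem perfect_le {Y : Type u} [Group Y] {S : Subgroup Y} [hS : S.Normal]
    (hc : Subgroup.centralizer (S : Set Y) = ⊥) (hout : Group.IsSolvable (Cfsg.Out S)) {P : Subgroup Y}
    (hP : ⁅P, P⁆ = P) : P ≤ S := by
  let f : Y →* Cfsg.Out S := (QuotientGroup.mk' (Cfsg.Inn S)).comp (MulAut.conjNormal (H := S))
  have h1 : P.map f = ⊥ := eq_bot_of_perfect (map_commutator_eq f hP)
    (Group.isSolvable_of_isSolvable_injective (f := (P.map f).subtype) Subtype.val_injective)
  intro y hy
  have h2 : f y = 1 := by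
    have : f y ∈ P.map f := ⟨y, hy, rfl⟩
    rwa [h1, Subgroup.mem_bot] at this
  have h3 : (MulAut.conjNormal (H := S) y) ∈ Cfsg.Inn S := (QuotientGroup.eq_one_iff _).1 h2
  obtain ⟨s, hs⟩ := h3
  have h4 : (s : Y)⁻¹ * y ∈ Subgroup.centralizer (S : Set Y) := by
    rw [Subgroup.mem_centralizer_iff]
    intro t ht
    have h5 := congrArg (fun φ : MulAut S => ((φ ⟨t, ht⟩ : S) : Y)) hs
    simp only [MulAut.conj_apply, MulAut.conjNormal_apply, Subgroup.coe_mul, Subgroup.coe_inv] at h5
    have h6 : (s : Y) * t = y * t * y⁻¹ * s := by rw [← h5]; group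
    calc t * ((s : Y)⁻¹ * y) = (s : Y)⁻¹ * ((s : Y) * t) * (s : Y)⁻¹ * y := by group
      _ = (s : Y)⁻¹ * (y * t * y⁻¹ * s) * (s : Y)⁻¹ * y := by rw [h6]
      _ = (s : Y)⁻¹ * y * t := by group
  rw [hc, Subgroup.mem_bot] at h4
  have h7 : y = s := by
    have := congrArg (fun z => (s : Y) * z) h4
    simpa [← mul_assoc] using this
  rw [h7]
  exact s.2

/-- a perfect subgroup of a group with solvable quotient by a normal subgroup lies in the normal subgroup -/
theorem perfect_le_of_solvable {Y : Type u} [Group Y] {N : Subgroup Y} [N.Normal] (h : Group.IsSolvable (Y ⧸ N))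
    {P : Subgroup Y} (hP : ⁅P, P⁆ = P) : P ≤ N := by
  have h1 : P.map (QuotientGroup.mk' N) = ⊥ := eq_bot_of_perfect (map_commutator_eq _ hP)
    (Group.isSolvable_of_isSolvable_injective (f := (P.map (QuotientGroup.mk' N)).subtype) Subtype.val_injective)
  rw [Subgroup.map_eq_bot_iff, QuotientGroup.ker_mk'] at h1
  exact h1

/-- **The frame.** -/
theorem frame {n : ℕ} (hn : 5 ≤ n)
    (hns : ∀ {G : Type u} [Group G] [Finite G], Group.IsSolvable G → charDegrees G = D n → False)
    (hsoc : ∀ {Y : Type u} [Group Y] [Finite Y] [Nontrivial Y], charDegrees Y ⊆ D n →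
      (∀ K : Subgroup Y, K.Normal → Group.IsSolvable K → K = ⊥) →
      ∃ S : Subgroup Y, S.Normal ∧ Nonempty (S ≃* An n) ∧ Subgroup.centralizer (S : Set Y) = ⊥)
    (hout : ∀ {S : Type u} [Group S] [Finite S] [IsSimpleGroup S], Group.IsSolvable (Cfsg.Out S))
    (hNC : NoChief.{u} n) {G : Type u} [Group G] [Finite G] (h : charDegrees G = D n) :
    ∃ N : Subgroup G, ∃ _ : N.Normal, Nonempty (N ≃* An n) ∧ Group.IsSolvable (G ⧸ N) ∧ ⁅N, N⁆ = N := by
  obtain ⟨R, iR, hRs, hR⟩ := exists_rad G
  obtain ⟨N, iN, hNs, hNp⟩ := exists_perfect G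
  have hsurj := QuotientGroup.mk'_surjective R
  have hnt : Nontrivial (G ⧸ R) := by
    by_contra hcon
    rw [not_nontrivial_iff_subsingleton] at hcon
    have h1 : R = ⊤ := by
      rw [eq_top_iff]
      intro x _
      exact (QuotientGroup.eq_one_iff x).1 (Subsingleton.elim _ _)
    subst h1
    exact hns (Group.isSolvable_of_isSolvable_injective (f := (Subgroup.topEquiv (G := G)).symm.toMonoidHom)
      (Subgroup.topEquiv (G := G)).symm.injective) h
  obtain ⟨S, iS, ⟨e⟩, hc⟩ := hsoc (Y := G ⧸ R) (fun d hd => h ▸ charDegrees_comp (QuotientGroup.mk' R) hsurj hd) hR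
  have hA : IsSimpleGroup (An n) := alternatingGroup.isSimpleGroup (by simpa using hn)
  have hsimp : IsSimpleGroup S := e.isSimpleGroup
  have hnab : ¬ IsMulCommutative S := by
    intro hcc
    have h1 : Subgroup.centralizer (S : Set (G ⧸ R)) ≥ S := by
      intro x hx
      rw [Subgroup.mem_centralizer_iff]
      intro y hy
      exact congrArg Subtype.val (hcc.is_comm.comm (⟨y, hy⟩ : S) ⟨x, hx⟩)
    rw [hc] at h1
    have h2 : S = ⊥ := le_bot_iff.1 h1
    have h3 := hsimp.toNontrivial
    rw [h2] at h3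
    exact not_subsingleton _ (inferInstance : Subsingleton (⊥ : Subgroup (G ⧸ R)))
  have hSp : ⁅S, S⁆ = S := by
    have h1 : (commutator S) = ⊤ := by
      rcases hsimp.eq_bot_or_eq_top_of_normal (commutator S) inferInstance with h2 | h2
      · exfalso
        apply hnab
        refine ⟨⟨fun a b => ?_⟩⟩
        have h3 : ⁅a, b⁆ ∈ commutator S := by
          rw [commutator_def]
          exact Subgroup.commutator_mem_commutator (Subgroup.mem_top a) (Subgroup.mem_top b)
        rw [h2, Subgroup.mem_bot, commutatorElement_eq_one_iff_mul_comm] at h3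
        exact h3
      · exact h2
    rw [← Subgroup.map_subtype_commutator, h1, ← MonoidHom.range_eq_map, Subgroup.range_subtype]
  -- the image of `N`
  have iN' : (N.map (QuotientGroup.mk' R)).Normal := iN.map _ hsurj
  have himg : N.map (QuotientGroup.mk' R) = S := by
    apply le_antisymm
    · exact perfect_le hc hout (map_commutator_eq _ hNp)
    · have h1 : Group.IsSolvable ((G ⧸ R) ⧸ N.map (QuotientGroup.mk' R)) := by
        let g : G ⧸ N →* ((G ⧸ R) ⧸ N.map (QuotientGroup.mk' R)) :=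
          QuotientGroup.map N (N.map (QuotientGroup.mk' R)) (QuotientGroup.mk' R) (Subgroup.le_comap_map _ _)
        have hg : Function.Surjective g := by
          intro x
          obtain ⟨y, rfl⟩ := QuotientGroup.mk_surjective x
          obtain ⟨z, rfl⟩ := QuotientGroup.mk_surjective y
          exact ⟨QuotientGroup.mk z, rfl⟩
        exact Group.isSolvable_of_surjective hg
      exact perfect_le_of_solvable h1 hSp
  -- the quotient
  have hMN : N ⊓ R ≤ N := inf_le_left
  have e1 : Nonempty ((N ⧸ (N ⊓ R).subgroupOf N) ≃* S) := by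
    let f : N →* N.map (QuotientGroup.mk' R) := (QuotientGroup.mk' R).subgroupMap N
    have hf : Function.Surjective f := (QuotientGroup.mk' R).subgroupMap_surjective N
    have hker : f.ker = (N ⊓ R).subgroupOf N := by
      ext x
      rw [MonoidHom.mem_ker, Subgroup.mem_subgroupOf, Subgroup.mem_inf, Subtype.ext_iff]
      change (QuotientGroup.mk' R) (x : G) = 1 ↔ _
      rw [QuotientGroup.mk'_apply, QuotientGroup.eq_one_iff]
      exact ⟨fun h => ⟨x.2, h⟩, fun h => h.2⟩
    exact ⟨((QuotientGroup.quotientMulEquivOfEq hker).symm.trans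
      (QuotientGroup.quotientKerEquivOfSurjective f hf)).trans (MulEquiv.subgroupCongr himg)⟩
  obtain ⟨e1⟩ := e1
  have hMs : Group.IsSolvable (N ⊓ R : Subgroup G) :=
    Group.isSolvable_of_isSolvable_injective (f := Subgroup.inclusion (inf_le_right : N ⊓ R ≤ R))
      (Subgroup.inclusion_injective _)
  have hM : N ⊓ R = ⊥ := kernel_trivial hNC h.le N (N ⊓ R) hMN (e1.trans e) hNp hMs
  refine ⟨N, iN, ?_, hNs, hNp⟩
  have h5 : (N ⊓ R).subgroupOf N = ⊥ := by rw [hM, Subgroup.bot_subgroupOf]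
  exact ⟨((QuotientGroup.quotientBot.symm.trans (QuotientGroup.quotientMulEquivOfEq h5.symm)).trans e1).trans e⟩

end Cfsg.Agent.H691.AN
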