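import Cfsg.Agent.H691.AN.Frame
import Cfsg.Agent.H245.AN.BTen
import Cfsg.Agent.H961.AN.B9
import Cfsg.Agent.H456.AN.BFive
import Cfsg.Agent.H866.AN.B6
import Cfsg.Agent.H521.AN.B7
import Cfsg.Agent.H212.AN.Socle
import Cfsg.Agent.H142.AN.E1
import Cfsg.Agent.H546.AN6.Main
import Cfsg.Agent.H71.AN.Deg
import Cfsg.Agent.H89.AN.AOneTwo
import Cfsg.Agent.H35.AN.A3
import Cfsg.Agent.H403.O1.Main
import Cfsg.Agent.H104.AN.B8
import Cfsg.Agent.H107.AN.BFourA
import Cfsg.Agent.H131.AN.B3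
import Cfsg.Agent.H724.AN.B

/-!
# S4766, modulo some pieces (helper691)
-/

set_option autoImplicit false

namespace Cfsg.Agent.H691.AN.Main

open Cfsg Cfsg.Agent.H691.AN

universe u

open scoped commutatorElement

/-- The pieces proved elsewhere. -/
structure Late : Prop where
  c1 : ∀ {n : ℕ}, 6 ≤ n → ∀ {A : Type u} [Group A] [Finite A] {S : Subgroup A}, AlmostSimple A S →
      charDegrees A ⊆ D n → Nonempty (S ≃* An n)
  c2 : ∀ {n : ℕ}, 6 ≤ n → ∀ {Y : Type u} [Group Y] [Finite Y], charDegrees Y ⊆ D n → ∀ W : Subgroup Y, W.Normal →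
      W ≠ ⊥ → (∀ K : Subgroup Y, K.Normal → K ≤ W → K = ⊥ ∨ K = W) → ¬ IsMulCommutative W → IsSimpleGroup W
  noChief : ∀ {n : ℕ}, 7 ≤ n → NoChief.{u} n

theorem a4 {n : ℕ} (hn : 7 ≤ n) : n - 1 ∈ D n ∧ n * (n - 3) / 2 ∈ D n ∧ (n - 1) * (n - 2) / 2 ∈ D n :=
  H71.AN.a4_of (@fun _ hn _ hl _ hd => H89.AN.a1_mem hn hl hd) hn

theorem a5 {n : ℕ} (hn : 10 ≤ n) {p k : ℕ} (hp : p.Prime) (hk : 0 < k) (h : p ^ k ∈ D n) : p ^ k = n - 1 :=
  H71.AN.a5_of (@fun _ hn _ hd => H89.AN.a2_part hn hd) hn hp hk h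

theorem a6 {n : ℕ} (hn : 7 ≤ n) {d : ℕ} (hd : d ∈ D n) : d = 1 ∨ n - 1 ≤ d :=
  H71.AN.a6_of (@fun _ hn _ hd => H89.AN.a2_part hn hd) hn hd

theorem b5 {n : ℕ} (hn : 20 ≤ n) {G : Type u} [Group G] [Finite G] (h : charDegrees G = D n) (K : Subgroup G)
    [K.Normal] {q : ℕ} (hq : q.Prime) (hK : IsPGroup q (G ⧸ K)) : commutator G ≤ K :=
  H456.AN.b5_pquot (@fun _ hn _ hd => H35.AN.a3_low hn hd) (fun hn => a4 hn) (@fun _ hn _ _ hp hk h => a5 hn hp hk h) hn h K hq hK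

theorem b4 {n : ℕ} (hn : 20 ≤ n) {G : Type u} [Group G] [Finite G] [Group.IsSolvable G] (h : charDegrees G = D n) :
    ∃ A : Subgroup G, A.Normal ∧ commutator G ≤ A ∧ A.index = n - 1 ∧
      ∃ χ : G → ℂ, IsIrrCharacter G χ ∧ χ 1 = (n - 1 : ℕ) ∧ ∀ g ∈ ⁅A, A⁆, χ g = χ 1 :=
  H107.AN.b4_linear_of (@fun _ _ _ _ h H hH => H724.AN.b1_trick h H hH) (@fun _ _ _ _ h => H724.AN.b2_exists_qp h)
    (@fun _ _ _ _ _ h hq _ hb h1 => H131.AN.b3_section h hq hb h1) hn h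

/-- groups with the degrees of `A_n` are not solvable -/
theorem not_solvable {n : ℕ} (hn : 7 ≤ n) {G : Type u} [Group G] [Finite G]
    (hs : Group.IsSolvable G) (h : charDegrees G = D n) : False := by
  rcases Nat.lt_or_ge n 20 with h20 | h20
  · have h1 := H245.AN.b10_small (by omega) h20 h
    have h2 : commutator G = ⊥ := eq_bot_of_perfect h1
      (Group.isSolvable_of_isSolvable_injective (f := (commutator G).subtype) Subtype.val_injective)
    have h3 : n - 1 ∈ charDegrees G := h ▸ (a4 hn).1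
    have hc : ∀ a b : G, a * b = b * a := by
      intro a b
      have h4 : ⁅a, b⁆ ∈ commutator G := by
        rw [commutator_def]
        exact Subgroup.commutator_mem_commutator (Subgroup.mem_top a) (Subgroup.mem_top b)
      rw [h2, Subgroup.mem_bot, commutatorElement_eq_one_iff_mul_comm] at h4
      exact h4
    have h5 := H424.DegTools.ito h3 (⊤ : Subgroup G) (fun a _ b _ => hc a b)
    rw [Subgroup.index_top, Nat.dvd_one] at h5
    omega
  · exact H961.AN.b9_large_of (@fun _ hn _ hd => H35.AN.a3_low hn hd) (fun hn => a4 hn) (@fun _ hn _ _ hp hk h => a5 hn hp hk h)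
      (@fun _ hn _ hd => a6 hn hd) (@fun _ hn _ _ _ _ h => b4 hn h) (@fun _ hn _ _ _ h K _ _ hq hK => b5 hn h K hq hK)
      (@fun _ _ _ _ hm hd hp A hA hc hi hx => H866.AN.b6_frob hm hd hp A hA hc hi hx)
      (@fun _ _ _ _ _ _ _ hF _ hθ _ ht hq => H521.AN.b7_coprime hF hθ ht hq)
      (@fun _ _ _ _ _ _ _ hF _ hd hc => H104.AN.b8_invariant hF hd hc) h20 h

/-- the socle of `G / Sol(G)` -/
theorem socle (L : Late.{u}) {n : ℕ} (hn : 6 ≤ n) {Y : Type u} [Group Y] [Finite Y] [Nontrivial Y]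
    (h : charDegrees Y ⊆ D n) (hrad : ∀ K : Subgroup Y, K.Normal → Group.IsSolvable K → K = ⊥) :
    ∃ S : Subgroup Y, S.Normal ∧ Nonempty (S ≃* An n) ∧ Subgroup.centralizer (S : Set Y) = ⊥ :=
  H212.AN.c3_socle (fun hA h => L.c1 hn hA h) (fun h W hW h0 hm hna => L.c2 hn h W hW h0 hm hna) h hrad

/-- **S4766**, `n ≥ 6` -/
theorem main (L : Late.{u}) (hout : ∀ {S : Type u} [Group S] [Finite S] [IsSimpleGroup S], Group.IsSolvable (Cfsg.Out S))
    {n : ℕ} (hn : 6 ≤ n) {G : Type u} [Group G] [Finite G] (h : charDegrees G = D n) :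
    ∃ (A : Type) (_ : CommGroup A), Nonempty (G ≃* (An n × A)) := by
  rcases Nat.eq_or_lt_of_le hn with h6 | h7
  · subst h6
    exact H546.AN6.e3_six (fun h => H245.AN.b10_small (by norm_num) (by norm_num) h)
      (fun h hrad => socle L le_rfl h hrad) h
  · obtain ⟨N, iN, ⟨e⟩, -, -⟩ := frame (by omega) (fun hs h => not_solvable h7 hs h)
      (fun h hrad => socle L hn h hrad) hout (L.noChief h7) h
    exact H142.AN.e1_end h7 (H403.O1.degrees_ne n (by omega)) (fun d hd => a6 h7 hd) h N e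

end Cfsg.Agent.H691.AN.Main
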